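import Cfsg.Agent.H800.KGV.Teich

/-!
# Jacobi sums of powers of the inverse Teichmüller character modulo `M`
-/

set_option autoImplicit false

namespace Cfsg.Agent.H800.KGV

open Cfsg Finset

variable {p : ℕ} {M : Ideal AlgInt}

section field

variable {K : Type*} [Field K] [Fintype K]

/-- `∑ x⁻¹ (1 - x) ^ n = n` -/
theorem sum_inv_mul (hq : 2 < Fintype.card K) {n : ℕ} (hn : n ≤ Fintype.card K - 1) :
    ∑ x : K, x⁻¹ * (1 - x) ^ n = n := by
  classical
  have h0 : ∀ i < n, ∑ x : K, (1 - x) ^ i = 0 := by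
    intro i hi
    have h1 : ∑ x : K, (1 - x) ^ i = ∑ x : K, x ^ i :=
      Fintype.sum_equiv (Equiv.subLeft (1 : K)) _ _ fun x => rfl
    rw [h1]
    exact FiniteField.sum_pow_lt_card_sub_one K i (by omega)
  have h1 : ∑ x : K, x⁻¹ = 0 := by
    have h2 : ∑ x : K, x⁻¹ = ∑ x : K, x ^ 1 :=
      Fintype.sum_equiv (Equiv.inv K) _ _ fun x => by rw [pow_one]; rfl
    rw [h2]
    exact FiniteField.sum_pow_lt_card_sub_one K 1 (by omega)
  have h2 : ∀ x : K, x⁻¹ * (1 - x) ^ n = x⁻¹ - ∑ i ∈ range n, (1 - x) ^ i + if x = 0 then (n : K) else 0 := by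
    intro x
    by_cases hx : x = 0
    · subst hx
      simp
    · rw [if_neg hx, add_zero]
      have h3 := geom_sum_mul (1 - x) n
      have h4 : (1 - x) ^ n = 1 - x * ∑ i ∈ range n, (1 - x) ^ i := by
        linear_combination -h3
      rw [h4, mul_sub, mul_one, ← mul_assoc, inv_mul_cancel₀ hx, one_mul]
  rw [sum_congr rfl fun x _ => h2 x, sum_add_distrib, sum_sub_distrib, h1, sum_comm,
    sum_eq_zero fun i hi => h0 i (mem_range.1 hi)]
  simp

end field

/-- the inverse Teichmüller character and its powers modulo `M` -/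
theorem mk_inv_pow {K : Type*} [Field K] [Fintype K] {ι : K →+* AlgInt ⧸ M} {Ω : MulChar K AlgInt}
    (h : ∀ x : K, Ideal.Quotient.mk M (Ω x) = ι x) {b : ℕ} (hb : b ≠ 0) (x : K) :
    Ideal.Quotient.mk M ((Ω⁻¹ ^ b) x) = ι (x⁻¹ ^ b) := by
  rw [MulChar.pow_apply' _ hb, MulChar.inv_apply', map_pow, h, map_pow]

/-- **The Jacobi sum.** -/
theorem mk_jacobi {K : Type*} [Field K] [Fintype K] [CharP K p] {ι : K →+* AlgInt ⧸ M} {Ω : MulChar K AlgInt}
    (h : ∀ x : K, Ideal.Quotient.mk M (Ω x) = ι x) {b : ℕ} (hb : b ≠ 0) (hbq : b + 1 < Fintype.card K - 1) :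
    Ideal.Quotient.mk M (-jacobiSum Ω⁻¹ (Ω⁻¹ ^ b)) = ((b + 1 : ℕ) : AlgInt ⧸ M) := by
  have h1 : Ideal.Quotient.mk M (jacobiSum Ω⁻¹ (Ω⁻¹ ^ b)) = ι (∑ x : K, x⁻¹ * (1 - x) ^ (Fintype.card K - 1 - b)) := by
    rw [jacobiSum, map_sum, map_sum]
    refine sum_congr rfl fun x _ => ?_
    have e := mk_inv_pow h (one_ne_zero) x
    rw [pow_one, pow_one] at e
    rw [map_mul, map_mul, e, mk_inv_pow h hb]
    congr 2
    by_cases hx : 1 - x = 0
    · rw [hx, inv_zero, zero_pow hb, zero_pow (by omega)]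
    · rw [inv_pow, inv_eq_iff_eq_inv]
      refine eq_inv_of_mul_eq_one_left ?_
      rw [← pow_add, show b + (Fintype.card K - 1 - b) = Fintype.card K - 1 by omega]
      exact FiniteField.pow_card_sub_one_eq_one _ hx
  rw [map_neg, h1, sum_inv_mul (by omega) (by omega), map_natCast]
  have h2 : ((b + 1 : ℕ) : K) + ((Fintype.card K - 1 - b : ℕ) : K) = 0 := by
    rw [← Nat.cast_add, show b + 1 + (Fintype.card K - 1 - b) = Fintype.card K by omega]
    exact FiniteField.cast_card_eq_zero K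
  have h3 := congrArg ι h2
  rw [map_add, map_zero, map_natCast, map_natCast] at h3
  exact (eq_neg_of_add_eq_zero_left h3).symm

end Cfsg.Agent.H800.KGV
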