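import Cfsg.Agent.H800.KGV.Jac

/-!
# Stickelberger's theorem, light version (task NT3a1 of TEAM KGV)

`stickelberger` : modulo units at the maximal ideal `M` over `p`, the Gauss sum of `ω ^ a` (`ω` the inverse Teichmüller
character) is the power of the Gauss sum of `ω` with the sum of the digits of `a` to the base `p` as exponent.
-/

set_option autoImplicit false

namespace Cfsg.Agent.H800.KGV

open Cfsg Finset

variable {p : ℕ} {M : Ideal AlgInt}

/-- equal up to local units at `M` -/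
def Ass (M : Ideal AlgInt) (x y : ℂ) : Prop := ∃ a b : AlgInt, a ∉ M ∧ b ∉ M ∧ (a : ℂ) * x = b * y

theorem Ass.refl [hM : M.IsPrime] (x : ℂ) : Ass M x x :=
  ⟨1, 1, (Ideal.ne_top_iff_one M).1 hM.ne_top, (Ideal.ne_top_iff_one M).1 hM.ne_top, rfl⟩

theorem Ass.symm {x y : ℂ} (h : Ass M x y) : Ass M y x := by
  obtain ⟨a, b, ha, hb, h⟩ := h
  exact ⟨b, a, hb, ha, h.symm⟩

theorem Ass.trans [hM : M.IsPrime] {x y z : ℂ} (h : Ass M x y) (h' : Ass M y z) : Ass M x z := by
  obtain ⟨a, b, ha, hb, h⟩ := h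
  obtain ⟨c, d, hc, hd, h'⟩ := h'
  refine ⟨a * c, b * d, fun h => (hM.mem_or_mem h).elim ha hc, fun h => (hM.mem_or_mem h).elim hb hd, ?_⟩
  push_cast
  linear_combination (c : ℂ) * h + (b : ℂ) * h'

theorem Ass.mul [hM : M.IsPrime] {x y x' y' : ℂ} (h : Ass M x y) (h' : Ass M x' y') : Ass M (x * x') (y * y') := by
  obtain ⟨a, b, ha, hb, h⟩ := h
  obtain ⟨c, d, hc, hd, h'⟩ := h'
  refine ⟨a * c, b * d, fun h => (hM.mem_or_mem h).elim ha hc, fun h => (hM.mem_or_mem h).elim hb hd, ?_⟩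
  push_cast
  linear_combination (c : ℂ) * x' * h + (b : ℂ) * y * h'

theorem Ass.pow [hM : M.IsPrime] {x y : ℂ} (h : Ass M x y) (n : ℕ) : Ass M (x ^ n) (y ^ n) := by
  induction n with
  | zero => rw [pow_zero, pow_zero]; exact Ass.refl 1
  | succ n ih => rw [pow_succ, pow_succ]; exact ih.mul h

theorem ass_of_mul {x : ℂ} {a : AlgInt} (hM : M.IsPrime) (ha : a ∉ M) : Ass M (a * x) x :=
  ⟨1, a, (Ideal.ne_top_iff_one M).1 hM.ne_top, ha, by push_cast; ring⟩

theorem notMem_of_pow_eq_one [hM : M.IsPrime] {a : AlgInt} {n : ℕ} (hn : n ≠ 0) (h : a ^ n = 1) : a ∉ M := by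
  intro ha
  have h1 := Ideal.pow_mem_of_mem M ha n (Nat.pos_of_ne_zero hn)
  rw [h] at h1
  exact (Ideal.ne_top_iff_one M).1 hM.ne_top h1

theorem dsum (hp : 1 < p) (m : ℕ) : (Nat.digits p m).sum = m % p + (Nat.digits p (m / p)).sum := by
  rcases Nat.eq_zero_or_pos m with rfl | hm
  · simp
  · rw [Nat.digits_def' hp hm, List.sum_cons]

section chars

variable {K : Type} [Field K] [Fintype K]

/-- two nontrivial additive characters -/
theorem exists_shift {ψ₀ ψ : AddChar K ℂ} (h₀ : ψ₀ ≠ 1) (h : ψ ≠ 1) : ∃ c : Kˣ, ψ = ψ₀.mulShift c := by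
  classical
  have hprim := AddChar.IsPrimitive.of_ne_one h₀
  have hinj := AddChar.to_mulShift_inj_of_isPrimitive hprim
  have hb : Function.Bijective (fun c : K => ψ₀.mulShift c) := by
    rw [Fintype.bijective_iff_injective_and_card]
    exact ⟨hinj, AddChar.card_eq.symm⟩
  obtain ⟨c, hc⟩ := hb.2 ψ
  have hc0 : c ≠ 0 := by
    rintro rfl
    apply h
    rw [← hc]
    exact AddChar.mulShift_zero ψ₀
  exact ⟨Units.mk0 c hc0, hc.symm⟩

/-- Gauss sums for two nontrivial additive characters -/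
theorem ass_shift [hM : M.IsPrime] (Ω : MulChar K AlgInt) {ψ₀ ψ : AddChar K ℂ} (h₀ : ψ₀ ≠ 1) (h : ψ ≠ 1) :
    Ass M (gaussSum (Ω.ringHomComp (algebraMap AlgInt ℂ)) ψ₀) (gaussSum (Ω.ringHomComp (algebraMap AlgInt ℂ)) ψ) := by
  classical
  obtain ⟨c, rfl⟩ := exists_shift h₀ h
  rw [← gaussSum_mulShift _ ψ₀ c]
  refine ass_of_mul hM ?_
  refine notMem_of_pow_eq_one (n := Fintype.card Kˣ) Fintype.card_ne_zero ?_
  rw [← MulChar.pow_apply_coe, MulChar.pow_card_eq_one, MulChar.one_apply_coe]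

/-- the `p`-th power of the multiplicative character -/
theorem gaussSum_frobenius [Fact p.Prime] [CharP K p] (χ : MulChar K ℂ) {ψ : AddChar K ℂ} (hψ : ψ ≠ 1) :
    ∃ ψ' : AddChar K ℂ, ψ' ≠ 1 ∧ gaussSum (χ ^ p) ψ = gaussSum χ ψ' := by
  let e : K ≃+* K := frobeniusEquiv K p
  refine ⟨ψ.compAddMonoidHom e.symm.toAddMonoidHom, fun h => hψ ?_, ?_⟩
  · ext x
    have h1 := DFunLike.congr_fun h (e x)
    rw [AddChar.compAddMonoidHom_apply, AddChar.one_apply] at h1
    rw [AddChar.one_apply, ← h1]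
    congr 1
    exact (e.symm_apply_apply x).symm
  · unfold gaussSum
    refine Fintype.sum_equiv e.toEquiv _ _ fun x => ?_
    rw [MulChar.pow_apply' _ (Nat.Prime.ne_zero Fact.out), AddChar.compAddMonoidHom_apply]
    congr 1
    · rw [← map_pow]
      rfl
    · congr 1
      exact (e.symm_apply_apply x).symm

end chars

/-- **The induction.** -/
theorem ass_pow (hM : IsPModular p M) {K : Type} [Field K] [Fintype K] [CharP K p] {ι : K →+* AlgInt ⧸ M}
    {Ω : MulChar K AlgInt} (h : ∀ x : K, Ideal.Quotient.mk M (Ω x) = ι x) {ψ₀ : AddChar K ℂ} (h₀ : ψ₀ ≠ 1) (a : ℕ) :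
    a < Fintype.card K - 1 → ∀ ψ : AddChar K ℂ, ψ ≠ 1 →
      Ass M (gaussSum (Ω⁻¹.ringHomComp (algebraMap AlgInt ℂ)) ψ₀ ^ (Nat.digits p a).sum)
        (gaussSum (Ω⁻¹.ringHomComp (algebraMap AlgInt ℂ) ^ a) ψ) := by
  have hMp := hM.2.1.isPrime
  have : Fact p.Prime := ⟨hM.1⟩
  have hp1 := hM.1.one_lt
  induction a using Nat.strong_induction_on with
  | _ a ih =>
  intro haq ψ hψ
  rcases Nat.eq_zero_or_pos a with rfl | ha
  · rw [Nat.digits_zero, List.sum_nil, pow_zero, pow_zero, gaussSum_one_left hψ]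
    refine ⟨1, -1, (Ideal.ne_top_iff_one M).1 hMp.ne_top, ?_, by push_cast; ring⟩
    exact notMem_of_pow_eq_one (n := 2) two_ne_zero (by ring)
  by_cases hpa : p ∣ a
  · obtain ⟨b, rfl⟩ := hpa
    have hb : 0 < b := Nat.pos_of_mul_pos_left ha
    have hbl : b < p * b := by nlinarith
    obtain ⟨ψ', hψ', he⟩ := gaussSum_frobenius (p := p) (Ω⁻¹.ringHomComp (algebraMap AlgInt ℂ) ^ b) hψ
    rw [dsum hp1, Nat.mul_mod_right, zero_add, Nat.mul_div_cancel_left _ hM.1.pos, mul_comm p b, pow_mul, he]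
    exact ih b hbl (by omega) ψ' hψ'
  rcases Nat.lt_or_ge 1 a with ha1 | ha1
  · have h1 := ih (a - 1) (by omega) (by omega) ψ hψ
    have h2 : (Nat.digits p a).sum = 1 + (Nat.digits p (a - 1)).sum := by
      have hmod : a % p ≠ 0 := fun h => hpa (Nat.dvd_of_mod_eq_zero h)
      have hlt := Nat.mod_lt a hM.1.pos
      have e1 : a - 1 = p * (a / p) + (a % p - 1) := by
        have := Nat.div_add_mod a p
        omega
      have e2 : (a - 1) % p = a % p - 1 := by
        rw [e1, Nat.mul_add_mod, Nat.mod_eq_of_lt (show a % p - 1 < p by omega)]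
      have e3 : (a - 1) / p = a / p := by
        rw [e1, Nat.mul_add_div hM.1.pos, Nat.div_eq_of_lt (show a % p - 1 < p by omega), add_zero]
      rw [dsum hp1 a, dsum hp1 (a - 1), e2, e3]
      omega
    have h3 := ass_shift (M := M) Ω⁻¹ h₀ hψ
    have h4 := h3.mul h1
    rw [← pow_succ', ← add_comm 1, ← h2] at h4
    have hord : orderOf (Ω⁻¹.ringHomComp (algebraMap AlgInt ℂ)) = Fintype.card K - 1 := by
      rw [← orderOf_teich hM h, ← orderOf_inv Ω]
      exact orderOf_injective (MulChar.ringHomCompHom (algebraMap AlgInt ℂ))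
        (MulChar.injective_ringHomComp Subtype.val_injective) Ω⁻¹
    have hne : Ω⁻¹.ringHomComp (algebraMap AlgInt ℂ) * Ω⁻¹.ringHomComp (algebraMap AlgInt ℂ) ^ (a - 1) ≠ 1 := by
      rw [← pow_succ', show a - 1 + 1 = a by omega]
      intro h5
      have h6 := Nat.le_of_dvd ha (orderOf_dvd_of_pow_eq_one h5)
      omega
    have h5 := jacobiSum_mul_nontrivial hne ψ
    rw [← pow_succ', show a - 1 + 1 = a by omega, MulChar.ringHomComp_pow _ _ (a - 1),
      jacobiSum_ringHomComp] at h5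
    rw [MulChar.ringHomComp_pow _ _ (a - 1), ← h5] at h4
    refine h4.trans ?_
    have h6 := mk_jacobi h (b := a - 1) (by omega) (by omega)
    have h7 : -jacobiSum Ω⁻¹ (Ω⁻¹ ^ (a - 1)) ∉ M := by
      rw [← Ideal.Quotient.eq_zero_iff_mem, h6, show a - 1 + 1 = a by omega]
      intro h7
      apply Blocks.Residue.natCast_notMem hM hpa
      rw [← Ideal.Quotient.eq_zero_iff_mem, map_natCast]
      exact h7
    refine ⟨1, jacobiSum Ω⁻¹ (Ω⁻¹ ^ (a - 1)), (Ideal.ne_top_iff_one M).1 hMp.ne_top, fun h8 => h7 (neg_mem h8), ?_⟩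
    push_cast
    rw [one_mul, mul_comm]
    rfl
  · obtain rfl : a = 1 := by omega
    have h2 : (Nat.digits p 1).sum = 1 := by
      rw [dsum hp1, Nat.mod_eq_of_lt hp1, Nat.div_eq_of_lt hp1]
      simp
    rw [h2, pow_one, pow_one]
    exact ass_shift (M := M) Ω⁻¹ h₀ hψ

theorem dsum_card_sub_one (hp : 1 < p) (f : ℕ) : (Nat.digits p (p ^ f - 1)).sum = f * (p - 1) := by
  induction f with
  | zero => simp
  | succ f ih =>
    have h1 : 1 ≤ p ^ f := Nat.one_le_pow _ _ (by omega)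
    have h2 : p ^ (f + 1) - 1 = p * (p ^ f - 1) + (p - 1) := by
      rw [pow_succ', Nat.mul_sub, mul_one]
      have : p ≤ p * p ^ f := Nat.le_mul_of_pos_right p (by omega)
      omega
    rw [dsum hp, h2, Nat.mul_add_mod, Nat.mod_eq_of_lt (show p - 1 < p by omega), Nat.mul_add_div (by omega),
      Nat.div_eq_of_lt (show p - 1 < p by omega), add_zero, ih]
    ring

theorem dsum_card_sub_two (hp : 1 < p) {f : ℕ} (hf : f ≠ 0) :
    (Nat.digits p (p ^ f - 2)).sum + 1 = f * (p - 1) := by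
  obtain ⟨g, rfl⟩ := Nat.exists_eq_succ_of_ne_zero hf
  have h1 : 1 ≤ p ^ g := Nat.one_le_pow _ _ (by omega)
  have h2 : p ^ (g + 1) - 2 = p * (p ^ g - 1) + (p - 2) := by
    rw [pow_succ', Nat.mul_sub, mul_one]
    have : p ≤ p * p ^ g := Nat.le_mul_of_pos_right p (by omega)
    omega
  rw [dsum hp, Nat.succ_eq_add_one, h2, Nat.mul_add_mod, Nat.mod_eq_of_lt (show p - 2 < p by omega),
    Nat.mul_add_div (by omega), Nat.div_eq_of_lt (show p - 2 < p by omega), add_zero, dsum_card_sub_one hp]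
  obtain ⟨r, rfl⟩ := Nat.exists_eq_add_of_lt hp
  simp only [show 1 + r + 1 - 2 = r by omega, show 1 + r + 1 - 1 = r + 1 by omega]
  ring

/-- Every character is a power of a character of maximal order. -/
theorem exists_pow {K : Type} [Field K] [Fintype K] {ω : MulChar K ℂ} (hω : orderOf ω = Fintype.card K - 1)
    (χ : MulChar K ℂ) : ∃ a, a < Fintype.card K - 1 ∧ χ = ω ^ a := by
  classical
  have h1 : Nat.card (MulChar K ℂ) = Fintype.card K - 1 := by
    rw [MulChar.card_eq_card_units_of_hasEnoughRootsOfUnity, Nat.card_eq_fintype_card, Fintype.card_units]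
  have hpos : 0 < Fintype.card K - 1 := by
    have := Fintype.one_lt_card (α := K)
    omega
  have : Finite (MulChar K ℂ) := Nat.finite_of_card_ne_zero (by omega)
  have h2 : Subgroup.zpowers ω = ⊤ := by
    apply Subgroup.eq_top_of_card_eq
    rw [Nat.card_zpowers, hω, h1]
  have h3 : χ ∈ Subgroup.zpowers ω := by rw [h2]; exact Subgroup.mem_top χ
  obtain ⟨n, hn⟩ := (mem_powers_iff_mem_zpowers).2 h3
  refine ⟨n % orderOf ω, ?_, ?_⟩
  · rw [← hω]
    exact Nat.mod_lt _ (by omega)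
  · rw [pow_mod_orderOf]
    exact hn.symm

/-- **Stickelberger light.** -/
theorem stickelberger (hM : IsPModular p M) (K : Type) [Field K] [Fintype K] [CharP K p] {f : ℕ}
    (hf : Fintype.card K = p ^ f) (hq : 2 < Fintype.card K) :
    ∃ (ω : MulChar K ℂ) (P : ℂ), orderOf ω = Fintype.card K - 1 ∧
      (∀ ψ : AddChar K ℂ, ψ ≠ 1 → ∀ a, a < Fintype.card K - 1 → ∃ x y : AlgInt, x ∉ M ∧ y ∉ M ∧
        (x : ℂ) * P ^ (Nat.digits p a).sum = y * gaussSum (ω ^ a) ψ) ∧
      (∃ x y : AlgInt, x ∉ M ∧ y ∉ M ∧ (x : ℂ) * P ^ (f * (p - 1)) = y * (Fintype.card K : ℂ)) ∧ P ≠ 0 := by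
  classical
  have hMp := hM.2.1.isPrime
  have : Fact p.Prime := ⟨hM.1⟩
  obtain ⟨ι⟩ := exists_emb hM K
  obtain ⟨Ω, h⟩ := exists_teich hM ι
  have hord : orderOf (Ω⁻¹.ringHomComp (algebraMap AlgInt ℂ)) = Fintype.card K - 1 := by
    rw [← orderOf_teich hM h, ← orderOf_inv Ω]
    exact orderOf_injective (MulChar.ringHomCompHom (algebraMap AlgInt ℂ))
      (MulChar.injective_ringHomComp Subtype.val_injective) Ω⁻¹
  obtain ⟨ψ₀, h₀⟩ : ∃ ψ₀ : AddChar K ℂ, ψ₀ ≠ 1 := by
    have hc : 1 < Fintype.card (AddChar K ℂ) := by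
      rw [AddChar.card_eq]
      omega
    have := Fintype.one_lt_card_iff_nontrivial.1 hc
    exact exists_ne 1
  have hprim := AddChar.IsPrimitive.of_ne_one h₀
  set ω := Ω⁻¹.ringHomComp (algebraMap AlgInt ℂ) with hω
  have hω1 : ω ≠ 1 := by
    intro h1
    rw [h1, orderOf_one] at hord
    omega
  refine ⟨ω, gaussSum ω ψ₀, hord, fun ψ hψ a ha => ass_pow hM h h₀ a ha ψ hψ, ?_, ?_⟩
  · have hf0 : f ≠ 0 := by
      rintro rfl
      rw [pow_zero] at hf
      omega
    have h1 := ass_pow hM h h₀ (p ^ f - 2) (by omega) ψ₀ h₀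
    have h2 := (Ass.refl (M := M) (gaussSum ω ψ₀)).mul h1
    rw [← hω, ← pow_succ', dsum_card_sub_two hM.1.one_lt hf0] at h2
    have h3 := gaussSum_mul_gaussSum_pow_orderOf_sub_one hω1 hprim
    rw [hord, hf, show p ^ f - 1 - 1 = p ^ f - 2 by omega] at h3
    rw [h3] at h2
    refine h2.trans ?_
    rw [hf]
    have h4 : ω (-1) = ((Ω⁻¹ (-1) : AlgInt) : ℂ) := rfl
    rw [h4]
    refine ass_of_mul hMp ?_
    refine notMem_of_pow_eq_one (n := 2) two_ne_zero ?_
    rw [← map_pow, neg_one_sq, map_one]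
  · refine gaussSum_ne_zero_of_nontrivial ?_ hω1 hprim
    exact Nat.cast_ne_zero.2 Fintype.card_ne_zero

end Cfsg.Agent.H800.KGV
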