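import Mathlib
import Cfsg.Prelude.Def_Blocks
import Cfsg.Agent.Blocks.Residue

/-!
# Teichmüller characters with values in the algebraic integers, modulo a maximal ideal
-/

set_option autoImplicit false

namespace Cfsg.Agent.H800.KGV

open Cfsg Finset

variable {p : ℕ} {M : Ideal AlgInt}

theorem emb_aux [Fact p.Prime] (K : Type*) [Field K] [Fintype K] [CharP K p] (k : Type*) [Field k] [CharP k p]
    [IsAlgClosed k] : Nonempty (K →+* k) := by
  let _ : Algebra (ZMod p) K := ZMod.algebra K p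
  let _ : Algebra (ZMod p) k := ZMod.algebra k p
  exact ⟨(IsAlgClosed.lift (R := ZMod p) (M := k) (S := K)).toRingHom⟩

/-- A finite field of characteristic `p` embeds into the residue field. -/
theorem exists_emb (hM : IsPModular p M) (K : Type*) [Field K] [Fintype K] [CharP K p] :
    Nonempty (K →+* AlgInt ⧸ M) := by
  have hmax := hM.2.1
  have : Fact p.Prime := ⟨hM.1⟩
  have hc := Blocks.Residue.charP_residue hM
  let _ : Field (AlgInt ⧸ M) := Ideal.Quotient.field M
  have : IsAlgClosed (AlgInt ⧸ M) := IsAlgClosed.of_exists_root _ fun f hf hirr =>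
    Blocks.Residue.exists_root_of_monic f hf hirr.natDegree_pos.ne'
  exact emb_aux K (AlgInt ⧸ M)

theorem card_sub_one_not_dvd (hp : p.Prime) (K : Type*) [Field K] [Fintype K] [CharP K p] :
    ¬ p ∣ Fintype.card K - 1 := by
  have : Fact p.Prime := ⟨hp⟩
  obtain ⟨n, hn⟩ := FiniteField.card K p
  rw [hn.2]
  intro hd
  have h1 : p ∣ p ^ (n : ℕ) := dvd_pow_self p n.ne_zero
  have h2 : 1 ≤ p ^ (n : ℕ) := Nat.one_le_pow _ _ hp.pos
  have h3 : p ∣ 1 := by
    have := Nat.dvd_sub h1 hd
    rwa [Nat.sub_sub_self h2] at this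
  exact hp.one_lt.ne' (Nat.dvd_one.mp h3)

/-- the lift of a single element -/
theorem exists_root (hM : IsPModular p M) {K : Type*} [Field K] [Fintype K] [CharP K p] (ι : K →+* AlgInt ⧸ M)
    (x : Kˣ) : ∃ w : AlgInt, w ^ (Fintype.card K - 1) = 1 ∧ Ideal.Quotient.mk M w = ι x := by
  have hmax := hM.2.1
  obtain ⟨a, ha⟩ := Ideal.Quotient.mk_surjective (ι (x : K))
  have hx0 : ι (x : K) ≠ 0 := by
    let _ : Field (AlgInt ⧸ M) := Ideal.Quotient.field M
    intro h
    exact x.ne_zero ((map_eq_zero_iff ι ι.injective).1 h)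
  have haM : a ∉ M := fun h => hx0 (by rw [← ha]; exact Ideal.Quotient.eq_zero_iff_mem.2 h)
  obtain ⟨ε, ⟨m, hm, hε⟩, h⟩ := Blocks.Residue.exists_root_sub_mem hM a haM
  have h1 : Ideal.Quotient.mk M ε = ι x := by
    rw [← ha]
    exact (Ideal.Quotient.eq.2 h).symm
  refine ⟨ε, ?_, h1⟩
  refine Blocks.Residue.eq_of_sub_mem hM ⟨m, hm, ?_⟩ ⟨1, fun h => hM.1.one_lt.ne' (Nat.dvd_one.1 h), ?_⟩ ?_
  · push_cast
    rw [← pow_mul, mul_comm, pow_mul, hε, one_pow]
  · simp
  · rw [← Ideal.Quotient.eq, map_pow, map_one, h1, ← map_pow, FiniteField.pow_card_sub_one_eq_one _ x.ne_zero, map_one]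

theorem root_unique (hM : IsPModular p M) {K : Type*} [Field K] [Fintype K] [CharP K p] {v w : AlgInt}
    (hv : v ^ (Fintype.card K - 1) = 1) (hw : w ^ (Fintype.card K - 1) = 1)
    (h : Ideal.Quotient.mk M v = Ideal.Quotient.mk M w) : v = w := by
  have hn := card_sub_one_not_dvd hM.1 K
  refine Blocks.Residue.eq_of_sub_mem hM ⟨_, hn, ?_⟩ ⟨_, hn, ?_⟩ (Ideal.Quotient.eq.1 h)
  · exact congrArg Subtype.val hv
  · exact congrArg Subtype.val hw

/-- **The Teichmüller character.** -/
theorem exists_teich (hM : IsPModular p M) {K : Type*} [Field K] [Fintype K] [CharP K p] (ι : K →+* AlgInt ⧸ M) :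
    ∃ Ω : MulChar K AlgInt, ∀ x : K, Ideal.Quotient.mk M (Ω x) = ι x := by
  choose w hw1 hw2 using fun x : Kˣ => exists_root hM ι x
  let W : Kˣ →* AlgInt :=
    { toFun := w
      map_one' := root_unique hM (K := K) (hw1 1) (one_pow _) (by rw [hw2, map_one, Units.val_one, map_one])
      map_mul' := fun x y => root_unique hM (K := K) (hw1 _) (by rw [mul_pow, hw1, hw1, one_mul])
        (by rw [hw2, map_mul, hw2, hw2, Units.val_mul, map_mul]) }
  refine ⟨MulChar.ofUnitHom W.toHomUnits, fun x => ?_⟩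
  by_cases hx : x = 0
  · subst hx
    rw [MulChar.map_zero, map_zero, map_zero]
  · obtain ⟨u, rfl⟩ := (isUnit_iff_ne_zero.2 hx : IsUnit x)
    rw [MulChar.ofUnitHom_coe]
    exact hw2 u

/-- The order of the Teichmüller character. -/
theorem orderOf_teich (hM : IsPModular p M) {K : Type*} [Field K] [Fintype K] [CharP K p] {ι : K →+* AlgInt ⧸ M}
    {Ω : MulChar K AlgInt} (h : ∀ x : K, Ideal.Quotient.mk M (Ω x) = ι x) : orderOf Ω = Fintype.card K - 1 := by
  have hmax := hM.2.1
  let _ : Field (AlgInt ⧸ M) := Ideal.Quotient.field M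
  classical
  refine Nat.dvd_antisymm ?_ ?_
  · refine orderOf_dvd_of_pow_eq_one ?_
    rw [← Fintype.card_units]
    exact MulChar.pow_card_eq_one Ω
  · obtain ⟨g, hg⟩ := IsCyclic.exists_generator (α := Kˣ)
    have h1 : orderOf g = Fintype.card K - 1 := by
      rw [← Fintype.card_units, ← Nat.card_eq_fintype_card]
      exact orderOf_eq_card_of_forall_mem_zpowers hg
    rw [← h1]
    refine orderOf_dvd_of_pow_eq_one (Units.ext ?_)
    apply ι.injective
    rw [Units.val_pow_eq_pow_val, map_pow, ← h, ← map_pow, ← MulChar.pow_apply_coe, pow_orderOf_eq_one,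
      MulChar.one_apply_coe, map_one, Units.val_one, map_one]

end Cfsg.Agent.H800.KGV
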